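import Cfsg.Agent.Lib.Perm.TwoPointFour.Sixteen.Scalar
import Mathlib.RingTheory.AdjoinRoot
import Mathlib.Algebra.Polynomial.SpecificDegree
import Mathlib.LinearAlgebra.AffineSpace.AffineEquiv
import Mathlib.LinearAlgebra.Matrix.GeneralLinearGroup.Card
import Mathlib.LinearAlgebra.Dimension.Free
import Mathlib.FieldTheory.Finite.Basic

/-!
Degree sixteen: the affine group of the plane over the field with four elements.
-/

set_option autoImplicit false
set_option linter.unusedSectionVars false
set_option linter.style.haveILetI false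

namespace CfsgLib.Perm.TwoPointFour.Sixteen

open MulAction Polynomial

/-- The quadratic without roots over the field with two elements. -/
noncomputable def quad : (ZMod 2)[X] := X ^ 2 + X + 1

theorem quad_monic : quad.Monic := by unfold quad; monicity!

theorem quad_degree : quad.natDegree = 2 := by unfold quad; compute_degree!

theorem quad_irreducible : Irreducible quad := by
  refine (irreducible_iff_roots_eq_zero_of_degree_le_three (by rw [quad_degree])
    (by rw [quad_degree]; norm_num)).2 (Multiset.eq_zero_of_forall_notMem fun x hx => ?_)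
  rw [mem_roots quad_monic.ne_zero, IsRoot.def, quad, eval_add, eval_add, eval_pow, eval_X,
    eval_one] at hx
  revert hx; revert x; decide

instance : Fact (Irreducible quad) := ⟨quad_irreducible⟩

/-- The field with four elements. -/
abbrev Four : Type := AdjoinRoot quad

theorem four_finite : Finite Four := by
  haveI := (AdjoinRoot.powerBasis' quad_monic).finite
  exact Module.finite_of_finite (ZMod 2)

theorem natCard_four : Nat.card Four = 4 := by
  haveI := (AdjoinRoot.powerBasis' quad_monic).finite
  rw [Module.natCard_eq_pow_finrank (K := ZMod 2), (AdjoinRoot.powerBasis' quad_monic).finrank,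
    AdjoinRoot.powerBasis'_dim, quad_degree, Nat.card_zmod]
  norm_num

variable {G Ω : Type*} [Group G] [MulAction G Ω] [Finite G]

namespace Plane

variable (h : Plane G Ω)
include h

theorem exists_translation (a x : Ω) : ∃ m ∈ h.translations a, m • a = x := by
  by_cases hx : x = a
  · exact ⟨1, one_mem _, by rw [one_smul, hx]⟩
  · obtain ⟨u, hu, hua⟩ := h.exists_fpf (Ne.symm hx)
    exact ⟨u, Or.inr hu, hua⟩

theorem translation_eq {a y : Ω} {m n : G} (hm : m ∈ h.translations a) (hn : n ∈ h.translations a)
    (he : m • y = n • y) : m = n := by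
  rcases hm with rfl | hm <;> rcases hn with rfl | hn
  · rfl
  · exact absurd (he.symm.trans (one_smul G y)) (hn.2 y)
  · exact absurd (he.trans (one_smul G y)) (hm.2 y)
  · exact h.fpf_unique hm hn he

theorem translation_conj {a : Ω} {m : G} (hm : m ∈ h.translations a) (g : G) :
    g * m * g⁻¹ ∈ h.translations a := by
  rcases hm with rfl | hm
  · simp [one_mem]
  · exact Or.inr (hm.conj g)

theorem translation_comm {a : Ω} {m n : G} (hm : m ∈ h.translations a) (hn : n ∈ h.translations a) :
    Commute m n := by
  rcases hm with rfl | hm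
  · exact Commute.one_left n
  rcases hn with rfl | hn
  · exact Commute.one_right m
  exact h.commute_all hm hn a

theorem translation_sq {a : Ω} {m : G} (hm : m ∈ h.translations a) : m * m = 1 := by
  rcases hm with rfl | hm
  · exact one_mul 1
  · exact mul_self_two hm.1

/-- **Degree sixteen.** -/
theorem affine (hG : Nat.card G = 2880) (hGa : ∀ a : Ω, Nat.card (stabilizer G a) = 180) :
    ∃ (F : Type) (_ : Field F) (_ : Fintype F), Fintype.card F = 4 ∧
      Nonempty (G ≃* ((Fin 2 → F) ≃ᵃ[F] (Fin 2 → F))) := by
  classical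
  haveI := h.finite_points
  haveI := four_finite
  haveI := h.faith
  obtain ⟨a, b, hab⟩ : ∃ a b : Ω, a ≠ b := by
    haveI : Nontrivial Ω := Finite.one_lt_card_iff_nontrivial.1 (by rw [h.card]; norm_num)
    exact exists_pair_ne Ω
  obtain ⟨z, hz3, hza, hzfix, hzc⟩ := h.exists_scalar hab (hGa a)
  set M := h.translations a
  letI : CommGroup M := { (inferInstance : Group M) with
    mul_comm := fun m n => Subtype.ext (h.translation_comm m.2 n.2).eq }
  letI : Module (ZMod 2) (Additive M) := AddCommGroup.zmodModule fun m => by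
    rw [two_nsmul]
    exact Subtype.ext (h.translation_sq (Additive.toMul m).2)
  have hMcard : Nat.card M = 16 := by
    rw [← h.card]
    refine Nat.card_congr (Equiv.ofBijective (fun m : M => (m : G) • a) ⟨fun m n e => ?_, fun x => ?_⟩)
    · exact Subtype.ext (h.translation_eq m.2 n.2 e)
    · obtain ⟨m, hm, e⟩ := h.exists_translation a x
      exact ⟨⟨m, hm⟩, e⟩
  -- conjugation
  let conjT : G → Module.End (ZMod 2) (Additive M) := fun g =>
    AddMonoidHom.toZModLinearMap 2
      (MonoidHom.toAdditive (MonoidHom.mk' (fun m : M =>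
        (⟨g * m * g⁻¹, h.translation_conj m.2 g⟩ : M))
        fun m n => Subtype.ext (by simp only [Subgroup.coe_mul]; group)))
  have hconj : ∀ (g : G) (m : Additive M),
      ((Additive.toMul (conjT g m) : M) : G) = g * (Additive.toMul m : M) * g⁻¹ := fun _ _ => rfl
  have hconjmul : ∀ g k : G, conjT g * conjT k = conjT (g * k) := fun g k =>
    LinearMap.ext fun m => congrArg Additive.ofMul (Subtype.ext (by
      show g * (k * ((Additive.toMul m : M) : G) * k⁻¹) * g⁻¹ = _
      show _ = g * k * ((Additive.toMul m : M) : G) * (g * k)⁻¹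
      group))
  set ω := conjT z with hω
  have hrel : aeval ω quad = 0 := by
    rw [quad, map_add, map_add, map_pow, aeval_X, map_one]
    refine LinearMap.ext fun m => ?_
    apply Additive.toMul.injective
    refine Subtype.ext ?_
    set q : G := ((Additive.toMul m : M) : G) with hq
    have hqM : q ∈ M := (Additive.toMul m).2
    show z * (z * q * z⁻¹) * z⁻¹ * (z * q * z⁻¹) * q = 1
    set n := z * (z * q * z⁻¹) * z⁻¹ * (z * q * z⁻¹) * q with hn
    have hnM : n ∈ M :=
      mul_mem (mul_mem (h.translation_conj (h.translation_conj hqM z) z)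
        (h.translation_conj hqM z)) hqM
    have hzn : z * n * z⁻¹ = n := by
      have hzz : z * (z * (z * q * z⁻¹) * z⁻¹) * z⁻¹ = q := by
        rw [show z * (z * (z * q * z⁻¹) * z⁻¹) * z⁻¹ = (z * z * z) * q * (z * z * z)⁻¹ by group,
          hz3]
        group
      calc z * n * z⁻¹ = z * (z * (z * q * z⁻¹) * z⁻¹) * z⁻¹ *
            (z * (z * q * z⁻¹) * z⁻¹) * (z * q * z⁻¹) := by rw [hn]; group
        _ = q * ((z * (z * q * z⁻¹) * z⁻¹) * (z * q * z⁻¹)) := by rw [hzz, mul_assoc]
        _ = n := by
          rw [(h.translation_comm hqM (mul_mem (h.translation_conj (h.translation_conj hqM z) z)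
            (h.translation_conj hqM z))).eq]
    have hna : n • a = a := by
      by_contra hne
      refine hzfix _ hne ?_
      calc z • n • a = (z * n * z⁻¹) • a := by
            rw [mul_smul (z * n) z⁻¹ a, inv_smul_eq_iff.2 hza.symm, mul_smul z n a]
        _ = n • a := by rw [hzn]
    exact h.translation_eq (y := a) hnM (one_mem _) (hna.trans (one_smul G a).symm)
  let φ : Four →+* Module.End (ZMod 2) (Additive M) :=
    Ideal.Quotient.lift (Ideal.span {quad}) (aeval ω).toRingHom fun p hp => by
      obtain ⟨c, rfl⟩ := Ideal.mem_span_singleton.1 hp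
      show aeval ω (quad * c) = 0
      rw [map_mul, hrel, zero_mul]
  letI : Module Four (Additive M) := Module.compHom (Additive M) φ
  haveI : Finite (Additive M) := inferInstanceAs (Finite M)
  haveI : Module.Finite Four (Additive M) := Module.Finite.of_finite
  have hrank : Module.finrank Four (Additive M) = 2 := by
    have h1 := Module.natCard_eq_pow_finrank (K := Four) (V := Additive M)
    rw [natCard_four, show Nat.card (Additive M) = 16 from hMcard] at h1
    exact Nat.pow_right_injective (le_refl 2 |>.trans (by norm_num : 2 ≤ 4))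
      (h1.symm.trans (by norm_num))
  let L : Additive M ≃ₗ[Four] (Fin 2 → Four) :=
    (Module.finBasisOfFinrankEq Four (Additive M) hrank).equivFun
  let e : (Fin 2 → Four) → Ω := fun v => ((Additive.toMul (L.symm v) : M) : G) • a
  have he : Function.Bijective e := by
    refine ⟨fun v w hvw => L.symm.injective (Additive.toMul.injective (Subtype.ext
      (h.translation_eq (Additive.toMul (L.symm v)).2 (Additive.toMul (L.symm w)).2 hvw))),
      fun x => ?_⟩
    obtain ⟨m, hm, hx⟩ := h.exists_translation a x
    exact ⟨L (Additive.ofMul ⟨m, hm⟩), by simp [e, hx]⟩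
  have haff : ∀ g : G, ∃ T : (Fin 2 → Four) ≃ᵃ[Four] (Fin 2 → Four), ∀ v, e (T v) = g • e v := by
    intro g
    obtain ⟨m, hm, hma⟩ := h.exists_translation a (g • a)
    set g₀ := m⁻¹ * g with hg₀
    have hg₀a : g₀ • a = a := by rw [hg₀, mul_smul, ← hma, inv_smul_smul]
    have hcomm : Commute (conjT g₀) ω := by
      show conjT g₀ * conjT z = conjT z * conjT g₀
      rw [hconjmul, hconjmul, (hzc g₀ hg₀a).eq]
    have hφ : ∀ (r : Four) (x : Additive M), conjT g₀ (φ r x) = φ r (conjT g₀ x) := by
      intro r x
      obtain ⟨q, rfl⟩ := Ideal.Quotient.mk_surjective r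
      have hc : Commute (conjT g₀) (aeval ω q) := by
        induction q using Polynomial.induction_on with
        | C c => rw [aeval_C]; exact (Algebra.commutes c _).symm
        | add q r hq hr => rw [map_add]; exact hq.add_right hr
        | monomial n c hn =>
          rw [map_mul, map_pow, aeval_C, aeval_X]
          exact Commute.mul_right (Algebra.commutes c _).symm (hcomm.pow_right _)
      exact LinearMap.congr_fun hc.eq x
    let A : Additive M →ₗ[Four] Additive M :=
      { toFun := conjT g₀
        map_add' := map_add _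
        map_smul' := hφ }
    have hA : Function.Bijective A := Finite.injective_iff_bijective.1 fun x y hxy => by
      have h1 : g₀ * ((Additive.toMul x : M) : G) * g₀⁻¹ = g₀ * ((Additive.toMul y : M) : G) * g₀⁻¹ := by
        rw [← hconj, ← hconj]
        exact congrArg (fun w : Additive M => ((Additive.toMul w : M) : G)) hxy
      exact Additive.toMul.injective (Subtype.ext (mul_left_cancel (mul_right_cancel h1)))
    refine ⟨((L.symm.trans (LinearEquiv.ofBijective A hA)).trans L).toAffineEquiv.trans
      (AffineEquiv.constVAdd Four (Fin 2 → Four) (L (Additive.ofMul ⟨m, hm⟩))), fun v => ?_⟩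
    show ((Additive.toMul (L.symm (L (Additive.ofMul ⟨m, hm⟩) + L (A (L.symm v)))) : M) : G) • a =
      g • ((Additive.toMul (L.symm v) : M) : G) • a
    rw [map_add, L.symm_apply_apply, L.symm_apply_apply]
    show (m * ((Additive.toMul (conjT g₀ (L.symm v)) : M) : G)) • a = _
    rw [hconj, mul_smul, mul_smul, mul_smul, inv_smul_eq_iff.2 hg₀a.symm, hg₀, mul_smul,
      smul_inv_smul]
  choose T hT using haff
  let Φ : G →* ((Fin 2 → Four) ≃ᵃ[Four] (Fin 2 → Four)) := MonoidHom.mk' T fun g k =>
    AffineEquiv.ext fun v => he.1 (by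
      show e (T (g * k) v) = e (T g (T k v))
      rw [hT, hT, hT, mul_smul])
  have hinj : Function.Injective Φ := fun g k hgk => eq_of_smul_eq_smul fun x : Ω => by
    obtain ⟨v, rfl⟩ := he.2 x
    rw [← hT, ← hT]
    exact congrArg (fun f : (Fin 2 → Four) ≃ᵃ[Four] (Fin 2 → Four) => e (f v)) hgk
  have := Fintype.ofFinite Four
  have hgl : Nat.card ((Fin 2 → Four) ≃ₗ[Four] (Fin 2 → Four)) = 180 := by
    rw [← Nat.card_congr (Matrix.GeneralLinearGroup.toLin.trans
      (LinearMap.GeneralLinearGroup.generalLinearEquiv Four (Fin 2 → Four))).toEquiv,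
      Matrix.card_GL_field, Fin.prod_univ_two, ← Nat.card_eq_fintype_card, natCard_four]
    norm_num
  have hinjA : Function.Injective (fun f : (Fin 2 → Four) ≃ᵃ[Four] (Fin 2 → Four) =>
      (f 0, f.linear)) := fun f f' hff => by
    refine AffineEquiv.ext fun v => ?_
    obtain ⟨h1, h2⟩ := Prod.ext_iff.1 hff
    have hf := f.map_vadd 0 v
    have hf' := f'.map_vadd 0 v
    simp only [vadd_eq_add, add_zero] at hf hf' h1 h2
    rw [hf, hf', h2, h1]
  haveI : Finite ((Fin 2 → Four) ≃ₗ[Four] (Fin 2 → Four)) :=
    Nat.finite_of_card_ne_zero (by rw [hgl]; norm_num)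
  haveI : Finite ((Fin 2 → Four) ≃ᵃ[Four] (Fin 2 → Four)) := Finite.of_injective _ hinjA
  have hle := Nat.card_le_card_of_injective _ hinjA
  rw [Nat.card_prod, hgl, Nat.card_fun, natCard_four, Nat.card_eq_fintype_card (α := Fin 2),
    Fintype.card_fin] at hle
  exact ⟨Four, inferInstance, inferInstance, by rw [← Nat.card_eq_fintype_card, natCard_four],
    ⟨MulEquiv.ofBijective Φ ((Nat.bijective_iff_injective_and_card Φ).2 ⟨hinj,
      le_antisymm (Nat.card_le_card_of_injective Φ hinj) (hle.trans_eq (by rw [hG]; norm_num))⟩)⟩⟩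

end Plane

end CfsgLib.Perm.TwoPointFour.Sixteen
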