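import Mathlib.GroupTheory.GroupAction.MultipleTransitivity
import Mathlib.GroupTheory.SpecificGroups.Alternating
import Mathlib.GroupTheory.Index
import Mathlib.Tactic

/-!
Doubly transitive groups of degree sixteen with two-point stabilisers isomorphic to the alternating
group of degree four: the lines, and the regular normal subgroup.
-/

set_option autoImplicit false
set_option linter.style.haveILetI false
set_option linter.unusedSectionVars false

namespace CfsgLib.Perm.TwoPointFour.Sixteen

open MulAction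

/-- The hypotheses in degree sixteen: involutions fixing two points fix four, commuting ones fix the
same, and every two points are exchanged by a unique fixed-point-free involution. -/
structure Plane (G Ω : Type*) [Group G] [MulAction G Ω] : Prop where
  faith : FaithfulSMul G Ω
  two : IsMultiplyPretransitive G Ω 2
  stab : ∀ c d : Ω, c ≠ d →
    Nonempty (↥(stabilizer G c ⊓ stabilizer G d) ≃* ↥(alternatingGroup (Fin 4)))
  card : Nat.card Ω = 16
  fixT : ∀ (t : G) (c d : Ω), c ≠ d → orderOf t = 2 → t • c = c → t • d = d →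
    (fixedBy Ω t).ncard = 4
  fixV : ∀ (t v : G) (c d : Ω), c ≠ d → orderOf t = 2 → orderOf v = 2 → Commute t v →
    t • c = c → t • d = d → v • c = c → v • d = d → fixedBy Ω t = fixedBy Ω v
  swap : ∀ c d : Ω, c ≠ d → ∃ u : G, orderOf u = 2 ∧ u • c = d ∧ (∀ x : Ω, u • x ≠ x) ∧
    ∀ u' : G, orderOf u' = 2 → u' • c = d → (∀ x : Ω, u' • x ≠ x) → u' = u

set_option synthInstance.maxSize 4000 in
theorem alt_four_facts :
    (∀ x y : ↥(alternatingGroup (Fin 4)), x * x = 1 → y * y = 1 → x * y = y * x) ∧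
    (∀ x : ↥(alternatingGroup (Fin 4)), x * x = 1 ∨ x * x * x = 1) ∧
    (∃ t v : ↥(alternatingGroup (Fin 4)), t * t = 1 ∧ v * v = 1 ∧ t ≠ 1 ∧ v ≠ 1 ∧ t ≠ v) ∧
    (∀ h s : ↥(alternatingGroup (Fin 4)), h * h = 1 → s * s * s = 1 → s ≠ 1 →
      (h * s * h = s ∨ h * s * h = s * s) → h = 1) ∧
    (∀ h t : ↥(alternatingGroup (Fin 4)), h * h * h = 1 → h ≠ 1 → t * t = 1 → t ≠ 1 →
      (h * (t * h⁻¹ * t)) * (h * (t * h⁻¹ * t)) = 1 ∧ h * (t * h⁻¹ * t) ≠ 1) := by
  refine ⟨?_, ?_, ?_, ?_, ?_⟩ <;> decide +kernel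

theorem card_alt_four : Nat.card ↥(alternatingGroup (Fin 4)) = 12 := by
  rw [Nat.card_eq_fintype_card]; decide +kernel

variable {G Ω : Type*} [Group G] [MulAction G Ω]

/-- The fixed-point-free involutions. -/
def Fpf (Ω : Type*) [MulAction G Ω] (u : G) : Prop := orderOf u = 2 ∧ ∀ x : Ω, u • x ≠ x

/-- The line through two points: what their stabiliser fixes. -/
def line (G : Type*) {Ω : Type*} [Group G] [MulAction G Ω] (c d : Ω) : Set Ω :=
  {x | ∀ g ∈ stabilizer G c ⊓ stabilizer G d, g • x = x}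

theorem left_mem_line (c d : Ω) : c ∈ line G c d := fun _ hg => hg.1

theorem right_mem_line (c d : Ω) : d ∈ line G c d := fun _ hg => hg.2

theorem mul_self_two {x : G} (hx : orderOf x = 2) : x * x = 1 := by
  rw [← pow_two, ← hx, pow_orderOf_eq_one]

theorem order_two' {x : G} (hx : x * x = 1) (h1 : x ≠ 1) : orderOf x = 2 :=
  orderOf_eq_prime (by rw [pow_two]; exact hx) h1

theorem ne_one_two {x : G} (hx : orderOf x = 2) : x ≠ 1 := fun h => by
  rw [h, orderOf_one] at hx; norm_num at hx

theorem Fpf.smul_smul {u : G} (hu : Fpf Ω u) (x : Ω) : u • u • x = x := by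
  rw [← mul_smul, mul_self_two hu.1, one_smul]

theorem Fpf.conj {u : G} (hu : Fpf Ω u) (g : G) : Fpf Ω (g * u * g⁻¹) := by
  refine ⟨?_, fun x hx => hu.2 (g⁻¹ • x) ?_⟩
  · exact (orderOf_injective (MulAut.conj g).toMonoidHom (MulAut.conj g).injective u).trans hu.1
  · rw [mul_smul, mul_smul] at hx
    exact eq_inv_smul_iff.2 hx

namespace Plane

variable (h : Plane G Ω)
include h

theorem move {c d c' d' : Ω} (hcd : c ≠ d) (hcd' : c' ≠ d') : ∃ g : G, g • c = c' ∧ g • d = d' :=
  (is_two_pretransitive_iff.1 h.two) hcd hcd'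

theorem finite_points : Finite Ω := Nat.finite_of_card_ne_zero (by rw [h.card]; norm_num)

theorem card_pair {c d : Ω} (hcd : c ≠ d) : Nat.card ↥(stabilizer G c ⊓ stabilizer G d) = 12 := by
  obtain ⟨e⟩ := h.stab c d hcd
  rw [Nat.card_congr e.toEquiv, card_alt_four]

theorem pair_facts {c d : Ω} (hcd : c ≠ d) :
    (∀ x ∈ stabilizer G c ⊓ stabilizer G d, ∀ y ∈ stabilizer G c ⊓ stabilizer G d,
      x * x = 1 → y * y = 1 → Commute x y) ∧
    (∀ x ∈ stabilizer G c ⊓ stabilizer G d, x * x = 1 ∨ x * x * x = 1) ∧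
    (∃ t ∈ stabilizer G c ⊓ stabilizer G d, ∃ v ∈ stabilizer G c ⊓ stabilizer G d,
      orderOf t = 2 ∧ orderOf v = 2 ∧ t ≠ v) ∧
    (∀ k ∈ stabilizer G c ⊓ stabilizer G d, ∀ s ∈ stabilizer G c ⊓ stabilizer G d,
      k * k = 1 → s * s * s = 1 → s ≠ 1 → (k * s * k = s ∨ k * s * k = s * s) → k = 1) ∧
    (∀ k ∈ stabilizer G c ⊓ stabilizer G d, ∀ t ∈ stabilizer G c ⊓ stabilizer G d,
      k * k * k = 1 → k ≠ 1 → orderOf t = 2 → orderOf (k * (t * k⁻¹ * t)) = 2) := by
  obtain ⟨e⟩ := h.stab c d hcd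
  obtain ⟨f1, f2, ⟨t, v, ht, hv, ht1, hv1, htv⟩, f4, f5⟩ := alt_four_facts
  refine ⟨fun x hx y hy hxx hyy => ?_, fun x hx => ?_,
    ⟨(e.symm t : G), (e.symm t).2, (e.symm v : G), (e.symm v).2, ?_, ?_, fun he =>
      htv (e.symm.injective (Subtype.ext he))⟩,
    fun k hk s hs hkk hss hs1 hks => ?_, fun k hk t hx hkk hk1 ht2 => ?_⟩
  · have := f1 (e ⟨x, hx⟩) (e ⟨y, hy⟩)
      (by rw [← map_mul, show (⟨x, hx⟩ * ⟨x, hx⟩ : ↥(stabilizer G c ⊓ stabilizer G d)) = 1 from
        Subtype.ext hxx, map_one])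
      (by rw [← map_mul, show (⟨y, hy⟩ * ⟨y, hy⟩ : ↥(stabilizer G c ⊓ stabilizer G d)) = 1 from
        Subtype.ext hyy, map_one])
    rw [← map_mul, ← map_mul] at this
    exact congrArg Subtype.val (e.injective this)
  · rcases f2 (e ⟨x, hx⟩) with r | r
    · rw [← map_mul] at r
      exact Or.inl (congrArg Subtype.val (e.injective (r.trans (map_one e).symm)))
    · rw [← map_mul, ← map_mul] at r
      exact Or.inr (congrArg Subtype.val (e.injective (r.trans (map_one e).symm)))
  · refine order_two' ?_ fun he => ht1 (e.symm.injective ((Subtype.ext he).trans (map_one e.symm).symm))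
    rw [← Subgroup.coe_mul, ← map_mul, ht, map_one, Subgroup.coe_one]
  · refine order_two' ?_ fun he => hv1 (e.symm.injective ((Subtype.ext he).trans (map_one e.symm).symm))
    rw [← Subgroup.coe_mul, ← map_mul, hv, map_one, Subgroup.coe_one]
  · have hne : ∀ {z : G} (hz : z ∈ stabilizer G c ⊓ stabilizer G d), e ⟨z, hz⟩ = 1 → z = 1 :=
      fun hz he => congrArg Subtype.val (e.injective (he.trans (map_one e).symm))
    refine hne hk (f4 _ (e ⟨s, hs⟩) ?_ ?_ (fun he => hs1 (hne hs he)) ?_)
    · rw [← map_mul, show (⟨k, hk⟩ * ⟨k, hk⟩ : ↥(stabilizer G c ⊓ stabilizer G d)) = 1 from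
        Subtype.ext hkk, map_one]
    · rw [← map_mul, ← map_mul, show (⟨s, hs⟩ * ⟨s, hs⟩ * ⟨s, hs⟩ :
        ↥(stabilizer G c ⊓ stabilizer G d)) = 1 from Subtype.ext hss, map_one]
    · rcases hks with r | r
      · left; rw [← map_mul, ← map_mul]; exact congrArg e (Subtype.ext r)
      · right; rw [← map_mul, ← map_mul, ← map_mul]; exact congrArg e (Subtype.ext r)
  · obtain ⟨r1, r2⟩ := f5 (e ⟨k, hk⟩) (e ⟨t, hx⟩)
      (by rw [← map_mul, ← map_mul, show (⟨k, hk⟩ * ⟨k, hk⟩ * ⟨k, hk⟩ :
        ↥(stabilizer G c ⊓ stabilizer G d)) = 1 from Subtype.ext hkk, map_one])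
      (fun he => hk1 (congrArg Subtype.val (e.injective (he.trans (map_one e).symm))))
      (by rw [← map_mul, show (⟨t, hx⟩ * ⟨t, hx⟩ : ↥(stabilizer G c ⊓ stabilizer G d)) = 1 from
        Subtype.ext (mul_self_two ht2), map_one])
      (fun he => ne_one_two ht2 (congrArg Subtype.val (e.injective (he.trans (map_one e).symm))))
    rw [← map_inv, ← map_mul, ← map_mul, ← map_mul] at r1 r2
    rw [← map_mul] at r1
    refine order_two' (congrArg Subtype.val (e.injective (r1.trans (map_one e).symm))) fun he => r2 ?_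
    rw [← map_one e]
    exact congrArg e (Subtype.ext he)

theorem fixed_eq_line {c d : Ω} (hcd : c ≠ d) {t : G} (ht : t ∈ stabilizer G c ⊓ stabilizer G d)
    (ht2 : orderOf t = 2) : line G c d = fixedBy Ω t := by
  refine Set.Subset.antisymm (fun x hx => hx t ht) fun x hx g hg => ?_
  haveI := h.finite_points
  obtain ⟨hcomm, hord, -⟩ := h.pair_facts hcd
  have key : ∀ v ∈ stabilizer G c ⊓ stabilizer G d, orderOf v = 2 → v • x = x := fun v hv hv2 => by
    have e := h.fixV t v c d hcd ht2 hv2 (hcomm t ht v hv (mul_self_two ht2) (mul_self_two hv2))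
      ht.1 ht.2 hv.1 hv.2
    show x ∈ fixedBy Ω v
    rw [← e]; exact hx
  rcases hord g hg with hg2 | hg3
  · by_cases h1 : g = 1
    · rw [h1, one_smul]
    · exact key g hg (order_two' hg2 h1)
  · -- the four fixed points are moved among themselves, two of them staying
    have hstab : ∀ y : Ω, t • y = y → t • (g • y) = g • y := fun y hy => by
      have hv : g⁻¹ * t * g ∈ stabilizer G c ⊓ stabilizer G d :=
        mul_mem (mul_mem (inv_mem hg) ht) hg
      have hv2 : orderOf (g⁻¹ * t * g) = 2 := by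
        have := orderOf_injective (MulAut.conj g⁻¹).toMonoidHom (MulAut.conj g⁻¹).injective t
        simpa [ht2] using this
      have e := h.fixV t _ c d hcd ht2 hv2 (hcomm t ht _ hv (mul_self_two ht2) (mul_self_two hv2))
        ht.1 ht.2 hv.1 hv.2
      have h1 : (g⁻¹ * t * g) • y = y := by
        show y ∈ fixedBy Ω (g⁻¹ * t * g)
        rw [← e]; exact hy
      rwa [mul_smul, mul_smul, inv_smul_eq_iff] at h1
    by_contra hgx
    set y := g • x with hy
    have hy' : t • y = y := hstab x hx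
    have hxc : x ≠ c := fun e => hgx (by rw [hy, e]; exact hg.1)
    have hxd : x ≠ d := fun e => hgx (by rw [hy, e]; exact hg.2)
    have hyc : y ≠ c := fun e => hxc (MulAction.injective g (e.trans hg.1.symm :))
    have hyd : y ≠ d := fun e => hxd (MulAction.injective g (e.trans hg.2.symm :))
    have hset : fixedBy Ω t = {c, d, x, y} := by
      refine (Set.eq_of_subset_of_ncard_le ?_ ?_ (Set.toFinite _)).symm
      · rintro w (rfl | rfl | rfl | rfl)
        exacts [ht.1, ht.2, hx, hy']
      · rw [h.fixT t c d hcd ht2 ht.1 ht.2, Set.ncard_insert_of_notMem, Set.ncard_insert_of_notMem,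
          Set.ncard_pair (fun e => hgx e.symm)]
        · simp [hxd.symm, hyd.symm]
        · simp [hcd, hxc.symm, hyc.symm]
    have hgy : g • y ∈ fixedBy Ω t := hstab y hy'
    rw [hset] at hgy
    have hgyy : g • y = x := by
      rcases hgy with r | r | r | r
      · exact absurd (MulAction.injective g (r.trans hg.1.symm :)) hyc
      · exact absurd (MulAction.injective g (r.trans hg.2.symm :)) hyd
      · exact r
      · exact absurd (MulAction.injective g (r.trans hy :)) (fun e => hgx e)
    have h3 : g • g • g • x = x := by rw [← mul_smul, ← mul_smul, hg3, one_smul]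
    rw [← hy, hgyy] at h3
    exact hgx h3

theorem ncard_line {c d : Ω} (hcd : c ≠ d) : (line G c d).ncard = 4 := by
  obtain ⟨-, -, ⟨t, ht, -, -, ht2, -, -⟩, -⟩ := h.pair_facts hcd
  rw [h.fixed_eq_line hcd ht ht2, h.fixT t c d hcd ht2 ht.1 ht.2]

/-- Any two points of a line determine it. -/
theorem stab_eq [Finite G] {c d x y : Ω} (hcd : c ≠ d) (hxy : x ≠ y) (hx : x ∈ line G c d)
    (hy : y ∈ line G c d) : stabilizer G x ⊓ stabilizer G y = stabilizer G c ⊓ stabilizer G d :=
  (Subgroup.eq_of_le_of_card_ge (fun g hg => (Subgroup.mem_inf.2 ⟨hx g hg, hy g hg⟩))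
    (by rw [h.card_pair hxy, h.card_pair hcd])).symm

theorem line_eq [Finite G] {c d x y : Ω} (hcd : c ≠ d) (hxy : x ≠ y) (hx : x ∈ line G c d)
    (hy : y ∈ line G c d) : line G x y = line G c d := by
  unfold line
  rw [h.stab_eq hcd hxy hx hy]

omit h in
theorem smul_line {g : G} {c d x : Ω} (hx : x ∈ line G c d) :
    g • x ∈ line G (g • c) (g • d) := by
  rintro k ⟨hk1, hk2⟩
  have hm : g⁻¹ * k * g ∈ stabilizer G c ⊓ stabilizer G d :=
    ⟨show (g⁻¹ * k * g) • c = c by rw [mul_smul, mul_smul, (hk1 : k • g • c = g • c), inv_smul_smul],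
      show (g⁻¹ * k * g) • d = d by rw [mul_smul, mul_smul, (hk2 : k • g • d = g • d), inv_smul_smul]⟩
  have := hx _ hm
  rwa [mul_smul, mul_smul, inv_smul_eq_iff] at this

/-- A nontrivial element of a two-point stabiliser fixes only the line. -/
theorem fix_mem [Finite G] {c d x : Ω} (hcd : c ≠ d) {g : G}
    (hg : g ∈ stabilizer G c ⊓ stabilizer G d) (hg1 : g ≠ 1) (hgx : g • x = x) :
    x ∈ line G c d := by
  classical
  haveI := h.finite_points
  obtain ⟨hcomm, hord, ⟨t, ht, v, hv, ht2, hv2, htv⟩, -, hgen⟩ := h.pair_facts hcd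
  rcases hord g hg with hg2 | hg3
  · rw [h.fixed_eq_line hcd hg (order_two' hg2 hg1)]; exact hgx
  by_contra hxF
  set F := line G c d with hF
  have hxc : c ≠ x := fun e => hxF (e ▸ left_mem_line c d)
  have hxd : d ≠ x := fun e => hxF (e ▸ right_mem_line c d)
  set D : Set Ω := {y | g • y = y ∧ y ∉ F} with hD
  have hD5 : 5 ≤ D.ncard := by
    have h1 : line G c x ∩ F ⊆ {c} := fun y hy => by
      by_contra hyc
      have hne : c ≠ y := fun e => hyc e.symm
      refine hxF ?_
      rw [hF, ← h.line_eq hcd hne (left_mem_line c d) hy.2, h.line_eq hxc hne (left_mem_line c x) hy.1]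
      exact right_mem_line c x
    have h2 : line G d x ∩ F ⊆ {d} := fun y hy => by
      by_contra hyc
      have hne : d ≠ y := fun e => hyc e.symm
      refine hxF ?_
      rw [hF, ← h.line_eq hcd hne (right_mem_line c d) hy.2, h.line_eq hxd hne (left_mem_line d x) hy.1]
      exact right_mem_line d x
    have h3 : line G c x ∩ line G d x ⊆ {x} := fun y hy => by
      by_contra hyc
      have e : line G c x = line G d x :=
        (h.line_eq hxc hyc hy.1 (right_mem_line c x)).symm.trans
          (h.line_eq hxd hyc hy.2 (right_mem_line d x))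
      have hdmem : d ∈ line G c x := by rw [e]; exact left_mem_line d x
      exact hcd.symm (h1 ⟨hdmem, right_mem_line c d⟩)
    have hsub : (line G c x \ {c}) ∪ (line G d x \ {d, x}) ⊆ D := by
      rintro y (⟨hy, hyc⟩ | ⟨hy, hyd⟩)
      · exact ⟨hy g ⟨hg.1, hgx⟩, fun hyF => hyc (h1 ⟨hy, hyF⟩)⟩
      · exact ⟨hy g ⟨hg.2, hgx⟩, fun hyF => hyd (Or.inl (h2 ⟨hy, hyF⟩))⟩
    have hdis : Disjoint (line G c x \ {c}) (line G d x \ {d, x}) :=
      Set.disjoint_left.2 fun y hy hy' => hy'.2 (Or.inr (h3 ⟨hy.1, hy'.1⟩))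
    have h4 := Set.ncard_le_ncard hsub (Set.toFinite _)
    rw [Set.ncard_union_eq hdis, Set.ncard_sdiff_singleton_of_mem (left_mem_line c x),
      Set.ncard_sdiff (Set.insert_subset (left_mem_line d x)
        (Set.singleton_subset_iff.2 (right_mem_line d x))), Set.ncard_pair hxd,
      h.ncard_line hxc, h.ncard_line hxd] at h4
    exact h4
  have himg : ∀ k ∈ stabilizer G c ⊓ stabilizer G d, (fun y => k • y) '' D ⊆ Fᶜ := by
    rintro k hk _ ⟨y, hy, rfl⟩ hmem
    refine hy.2 ?_
    have := hmem k⁻¹ (inv_mem hk)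
    rw [inv_smul_smul] at this
    rw [this]; exact hmem
  have hdisj : ∀ k ∈ stabilizer G c ⊓ stabilizer G d, orderOf k = 2 →
      Disjoint D ((fun y => k • y) '' D) := fun k hk hk2 => Set.disjoint_left.2 fun y hy hy' => by
    obtain ⟨w, hw, rfl⟩ := hy'
    refine hy.2 ?_
    have hi := hgen g hg k hk hg3 hg1 hk2
    rw [hF, h.fixed_eq_line hcd (mul_mem hg (mul_mem (mul_mem hk (inv_mem hg)) hk)) hi]
    show (g * (k * g⁻¹ * k)) • k • w = k • w
    rw [mul_smul, mul_smul, mul_smul,
      ← mul_smul k k w, mul_self_two hk2, one_smul, inv_smul_eq_iff.2 hw.1.symm, hy.1]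
  have hcompl : (Fᶜ).ncard = 12 := by
    rw [Set.compl_eq_univ_sdiff, Set.ncard_sdiff (Set.subset_univ _), Set.ncard_univ, h.card, hF,
      h.ncard_line hcd]
  have htv2 : orderOf (t * v) = 2 := by
    refine order_two' ?_ fun e => htv ?_
    · rw [Commute.mul_mul_mul_comm (hcomm v hv t ht (mul_self_two hv2) (mul_self_two ht2)),
        mul_self_two ht2, mul_self_two hv2, mul_one]
    · rw [eq_inv_of_mul_eq_one_left e, inv_eq_of_mul_eq_one_right (mul_self_two hv2)]
  have hinj : ∀ k : G, ((fun y : Ω => k • y) '' D).ncard = D.ncard := fun k =>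
    Set.ncard_image_of_injective _ (MulAction.injective k)
  have hd3 : Disjoint ((fun y => t • y) '' D) ((fun y => v • y) '' D) :=
    Set.disjoint_left.2 fun y hy hy' => by
      obtain ⟨w, hw, rfl⟩ := hy
      obtain ⟨w', hw', he⟩ := hy'
      refine (Set.disjoint_left.1 (hdisj _ (mul_mem ht hv) htv2)) hw ⟨w', hw', ?_⟩
      show (t * v) • w' = w
      rw [mul_smul, show v • w' = t • w from he, ← mul_smul, mul_self_two ht2, one_smul]
  have h5 := Set.ncard_le_ncard (show D ∪ ((fun y => t • y) '' D ∪ (fun y => v • y) '' D) ⊆ Fᶜ from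
    Set.union_subset (fun y hy => hy.2) (Set.union_subset (himg t ht) (himg v hv))) (Set.toFinite _)
  rw [Set.ncard_union_eq (Set.disjoint_union_right.2 ⟨hdisj t ht ht2, hdisj v hv hv2⟩),
    Set.ncard_union_eq hd3, hinj, hinj, hcompl] at h5
  omega

theorem eq_one_of_fix [Finite G] {c d x : Ω} (hcd : c ≠ d) (hx : x ∉ line G c d) {g : G}
    (hg : g ∈ stabilizer G c ⊓ stabilizer G d) (hgx : g • x = x) : g = 1 :=
  by_contra fun hg1 => hx (h.fix_mem hcd hg hg1 hgx)

/-- A two-point stabiliser is transitive off the line. -/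
theorem exists_off [Finite G] {c d x y : Ω} (hcd : c ≠ d) (hx : x ∉ line G c d)
    (hy : y ∉ line G c d) : ∃ g ∈ stabilizer G c ⊓ stabilizer G d, g • x = y := by
  haveI := h.finite_points
  set H := stabilizer G c ⊓ stabilizer G d
  have himg : Set.range (fun g : H => (g : G) • x) ⊆ (line G c d)ᶜ := by
    rintro _ ⟨g, rfl⟩ hmem
    refine hx ?_
    have := hmem (g : G)⁻¹ (inv_mem g.2)
    rw [inv_smul_smul] at this
    rw [this]; exact hmem
  have hinj : Function.Injective (fun g : H => (g : G) • x) := fun g g' e => by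
    refine Subtype.ext (inv_mul_eq_one.1 (h.eq_one_of_fix hcd hx (mul_mem (inv_mem g.2) g'.2) ?_))
    rw [mul_smul, ← show (g : G) • x = (g' : G) • x from e, inv_smul_smul]
  have hall : Set.range (fun g : H => (g : G) • x) = (line G c d)ᶜ := by
    refine Set.eq_of_subset_of_ncard_le himg ?_ (Set.toFinite _)
    rw [Set.ncard_range_of_injective hinj, h.card_pair hcd, Set.compl_eq_univ_sdiff,
      Set.ncard_sdiff (Set.subset_univ _), Set.ncard_univ, h.card, h.ncard_line hcd]
  have hym : y ∈ (line G c d)ᶜ := hy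
  rw [← hall] at hym
  obtain ⟨g, hg⟩ := hym
  exact ⟨g, g.2, hg⟩

theorem fpf_unique {u u' : G} {x : Ω} (hu : Fpf Ω u) (hu' : Fpf Ω u') (he : u • x = u' • x) :
    u = u' := by
  obtain ⟨w, -, -, -, huniq⟩ := h.swap x (u • x) fun e => hu.2 x e.symm
  rw [huniq u hu.1 rfl hu.2, huniq u' hu'.1 he.symm hu'.2]

theorem exists_fpf {x y : Ω} (hxy : x ≠ y) : ∃ u : G, Fpf Ω u ∧ u • x = y := by
  obtain ⟨u, h1, h2, h3, -⟩ := h.swap x y hxy
  exact ⟨u, ⟨h1, h3⟩, h2⟩

theorem commute_stab {u : G} (hu : Fpf Ω u) {x : Ω} {g : G}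
    (hg : g ∈ stabilizer G x ⊓ stabilizer G (u • x)) : Commute g u := by
  refine mul_inv_eq_iff_eq_mul.1 (h.fpf_unique (hu.conj g) hu (x := x) ?_)
  rw [mul_smul, mul_smul, inv_smul_eq_iff.2 (hg.1 : g • x = x).symm]
  exact hg.2

theorem smul_mem_own [Finite G] {u : G} (hu : Fpf Ω u) {x y : Ω} (hy : y ∈ line G x (u • x)) :
    u • y ∈ line G x (u • x) := by
  intro g hg
  rw [← mul_smul, (h.commute_stab hu hg).eq, mul_smul, hy g hg]

/-- Fixed-point-free involutions sending a point along one line commute. -/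
theorem commute_of_line [Finite G] {u w : G} (hu : Fpf Ω u) (hw : Fpf Ω w) {a : Ω}
    (hwa : w • a ∈ line G a (u • a)) : Commute u w := by
  classical
  set b := u • a with hb
  have hab : a ≠ b := fun e => hu.2 a e.symm
  by_cases hcb : w • a = b
  · rw [h.fpf_unique hw hu (hcb.trans hb)]
  set c := w • a with hc
  have hac : a ≠ c := fun e => hw.2 a e.symm
  have hwline : ∀ y ∈ line G a b, w • y ∈ line G a b := fun y hy => by
    have e := h.line_eq hab hac (left_mem_line a b) hwa
    rw [← e] at hy ⊢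
    exact h.smul_mem_own hw hy
  have hbb : b ∈ line G a b := right_mem_line a b
  set d := w • b with hd
  have hdl : d ∈ line G a b := hwline b hbb
  have hda : d ≠ a := fun e => hcb (by rw [hc, ← e, hd, hw.smul_smul])
  have hdb : d ≠ b := hw.2 b
  have hdc : d ≠ c := fun e => hab (MulAction.injective w (e.symm : w • a = w • b))
  have hset : line G a b = {a, b, c, d} := by
    haveI := h.finite_points
    refine (Set.eq_of_subset_of_ncard_le ?_ ?_ (Set.toFinite _)).symm
    · rintro y (rfl | rfl | rfl | rfl)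
      exacts [left_mem_line _ _, hbb, hwa, hdl]
    · rw [h.ncard_line hab, Set.ncard_insert_of_notMem, Set.ncard_insert_of_notMem,
        Set.ncard_pair hdc.symm]
      · simp [Ne.symm hcb, hdb.symm]
      · simp [hab, hac, hda.symm]
  have huc : u • c = d := by
    have h1 : u • c ∈ line G a b := h.smul_mem_own hu hwa
    rw [hset] at h1
    rcases h1 with r | r | r | r
    · exact absurd (by rw [← hu.smul_smul c, r]) hcb
    · exact absurd (MulAction.injective u (r.trans hb :)) hac.symm
    · exact absurd r (hu.2 c)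
    · exact r
  refine (mul_inv_eq_iff_eq_mul.1 (h.fpf_unique (hu.conj w) hu (x := c) ?_)).symm
  rw [mul_smul, mul_smul, inv_smul_eq_iff.2 (show c = w • a from hc), huc]

/-- Fixed-point-free involutions commute. -/
theorem commute_all [Finite G] {u w : G} (hu : Fpf Ω u) (hw : Fpf Ω w) (a : Ω) : Commute u w := by
  classical
  by_contra hne
  set b := u • a with hb
  have hab : a ≠ b := fun e => hu.2 a e.symm
  set H := stabilizer G a ⊓ stabilizer G b
  set x := w • a with hx
  have hxF : x ∉ line G a b := fun e => hne (h.commute_of_line hu hw e)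
  -- every commuting one stays on the line
  have honly : ∀ v : G, Fpf Ω v → Commute u v → v • a ∈ line G a b := by
    intro v hv huv
    by_contra hvF
    obtain ⟨g, hg, hgx⟩ := h.exists_off hab hvF hxF
    refine hne ?_
    have e : g * v * g⁻¹ = w := h.fpf_unique (hv.conj g) hw (x := a) (by
      rw [mul_smul, mul_smul, inv_smul_eq_iff.2 (hg.1 : g • a = a).symm, hgx])
    have hgu : Commute g u := h.commute_stab hu hg
    rw [← e]
    exact ((hgu.symm.mul_right huv).mul_right hgu.symm.inv_right)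
  -- the same at every fixed-point-free involution
  have honly' : ∀ v v' : G, Fpf Ω v → Fpf Ω v' → Commute v v' → v' • a ∈ line G a (v • a) := by
    intro v v' hv hv' hvv
    obtain ⟨g, hga, hgb⟩ := h.move hab (show a ≠ v • a from fun e => hv.2 a e.symm)
    have e1 : g * u * g⁻¹ = v := h.fpf_unique (hu.conj g) hv (x := a) (by
      rw [mul_smul, mul_smul, inv_smul_eq_iff.2 hga.symm, ← hb, hgb])
    have h1 : Commute u (g⁻¹ * v' * g) := by
      have := hvv.map (MulAut.conj g⁻¹).toMonoidHom
      rw [← e1] at this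
      simpa [mul_assoc] using this
    have h2 := honly _ (by simpa using hv'.conj g⁻¹) h1
    have h3 := smul_line (g := g) h2
    rw [hga, hgb, mul_smul, mul_smul, smul_inv_smul, hga] at h3
    exact h3
  set L := line G a x with hL
  have hax : a ≠ x := fun e => hw.2 a e.symm
  let K : Subgroup G :=
    { carrier := {k | k ∈ H ∧ ∀ y, y ∈ L ↔ k • y ∈ L}
      one_mem' := ⟨one_mem _, fun y => by rw [one_smul]⟩
      mul_mem' := fun {k k'} hk hk' => ⟨mul_mem hk.1 hk'.1, fun y => by
        rw [mul_smul, hk'.2 y, hk.2]⟩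
      inv_mem' := fun {k} hk => ⟨inv_mem hk.1, fun y => by
        rw [hk.2 (k⁻¹ • y), smul_inv_smul]⟩ }
  have hKmem : ∀ k ∈ H, k • x ∈ L → k ∈ K := by
    intro k hk hkx
    refine ⟨hk, fun y => ?_⟩
    have hak : a ≠ k • x := fun e => hax (MulAction.injective k ((hk.1 : k • a = a).trans e :))
    have e : line G a (k • x) = L := h.line_eq hax hak (left_mem_line a x) hkx
    constructor
    · intro hy
      have := smul_line (g := k) hy
      rwa [(hk.1 : k • a = a), e] at this
    · intro hy
      rw [← e] at hy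
      have := smul_line (g := k⁻¹) hy
      rwa [inv_smul_smul, inv_smul_smul, inv_smul_eq_iff.2 (hk.1 : k • a = a).symm] at this
  have hLF : ∀ y ∈ L, y ≠ a → y ∉ line G a b := fun y hy hya hyF => hxF (by
    rw [← h.line_eq hab hya.symm (left_mem_line a b) hyF,
      h.line_eq hax hya.symm (left_mem_line a x) hy]
    exact right_mem_line a x)
  haveI := h.finite_points
  have hKcard : Nat.card K = 3 := by
    have himg : Set.range (fun k : K => (k : G) • x) = L \ {a} := by
      ext y
      constructor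
      · rintro ⟨k, rfl⟩
        refine ⟨(k.2.2 x).1 (right_mem_line a x), fun e => hax ?_⟩
        exact MulAction.injective (k : G) ((k.2.1.1 : (k : G) • a = a).trans (Eq.symm e) :)
      · rintro ⟨hy, hya⟩
        obtain ⟨g, hg, hgx⟩ := h.exists_off hab hxF (hLF y hy hya)
        exact ⟨⟨g, hKmem g hg (hgx.symm ▸ hy)⟩, hgx⟩
    have hinj : Function.Injective (fun k : K => (k : G) • x) := fun k k' e => by
      refine Subtype.ext (inv_mul_eq_one.1 (h.eq_one_of_fix hab hxF
        (mul_mem (inv_mem k.2.1) k'.2.1) ?_))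
      rw [mul_smul, ← show (k : G) • x = (k' : G) • x from e, inv_smul_smul]
    rw [← Set.ncard_range_of_injective hinj, himg,
      Set.ncard_sdiff_singleton_of_mem (left_mem_line a x), h.ncard_line hax]
  obtain ⟨⟨s, hsK⟩, hs1⟩ : ∃ s : K, s ≠ 1 := by
    haveI : Nontrivial K := Finite.one_lt_card_iff_nontrivial.1 (by omega)
    exact exists_ne 1
  have hs1' : s ≠ 1 := fun e => hs1 (Subtype.ext e)
  haveI : Fact (Nat.Prime 3) := ⟨Nat.prime_three⟩
  have hso : orderOf (⟨s, hsK⟩ : K) = 3 :=
    ((Nat.dvd_prime Nat.prime_three).1 (hKcard ▸ orderOf_dvd_natCard _)).resolve_left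
      fun e => hs1 (orderOf_eq_one_iff.1 e)
  have hs3 : s * s * s = 1 := by
    have := pow_orderOf_eq_one (⟨s, hsK⟩ : K)
    rw [hso, pow_succ, pow_two] at this
    exact congrArg Subtype.val this
  -- the conjugate under `u`
  set z := u * w * u⁻¹ with hz
  have hzF : z • a ∉ line G a b := fun e => by
    have h1 : Commute u z := h.commute_of_line hu (hw.conj u) e
    refine hne ?_
    have := (Commute.refl u).inv_right.mul_right (h1.mul_right (Commute.refl u))
    rwa [hz, show u⁻¹ * (u * w * u⁻¹ * u) = w by group] at this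
  obtain ⟨k, hk, hkx⟩ := h.exists_off hab hxF hzF
  have hzk : k * w * k⁻¹ = z := h.fpf_unique (hw.conj k) (hw.conj u) (x := a) (by
    rw [mul_smul, mul_smul, inv_smul_eq_iff.2 (hk.1 : k • a = a).symm, ← hx, hkx])
  have hku : Commute k u := h.commute_stab hu hk
  have huu : u * u = 1 := mul_self_two hu.1
  have hui : u⁻¹ = u := inv_eq_of_mul_eq_one_right huu
  have hkk : k * k = 1 := by
    refine h.eq_one_of_fix hab hxF (mul_mem hk hk) ?_
    have e : (k * k) * w * (k * k)⁻¹ = w := by
      calc (k * k) * w * (k * k)⁻¹ = k * (k * w * k⁻¹) * k⁻¹ := by group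
        _ = k * (u * w * u⁻¹) * k⁻¹ := by rw [hzk]
        _ = (k * u) * w * (k * u)⁻¹ := by group
        _ = u * (k * w * k⁻¹) * u⁻¹ := by rw [hku.eq]; group
        _ = w := by rw [hzk, hz, hui, show u * (u * w * u) * u = (u * u) * w * (u * u) by group,
            huu, one_mul, mul_one]
    have e2 : ((k * k) * w * (k * k)⁻¹) • a = w • a := by rw [e]
    rw [mul_smul, mul_smul,
      inv_smul_eq_iff.2 ((mul_mem hk hk : k * k ∈ H).1 : (k * k) • a = a).symm] at e2
    exact e2
  have hki : k⁻¹ = k := inv_eq_of_mul_eq_one_right hkk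
  have hsu : Commute s u := h.commute_stab hu hsK.1
  set w' := s * w * s⁻¹ with hw'
  have hw'a : w' • a = s • x := by
    rw [hw', mul_smul, mul_smul, inv_smul_eq_iff.2 (hsK.1.1 : s • a = a).symm]
  have h1 : Commute w w' := h.commute_of_line hw (hw.conj s)
    (show w' • a ∈ line G a (w • a) from hw'a.symm ▸ (hsK.2 x).1 (right_mem_line a x))
  have h2 : Commute z (s * z * s⁻¹) := by
    have h2 : Commute (u * w * u⁻¹) (u * w' * u⁻¹) := h1.map (MulAut.conj u).toMonoidHom
    rwa [← hz, hw', show u * (s * w * s⁻¹) * u⁻¹ = (u * s) * w * (u * s)⁻¹ by group, ← hsu.eq,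
      show (s * u) * w * (s * u)⁻¹ = s * (u * w * u⁻¹) * s⁻¹ by group, ← hz] at h2
  have h3 : (s * z * s⁻¹) • a ∈ line G a (z • a) := honly' z _ (hw.conj u) ((hw.conj u).conj s) h2
  have hksk : k * s * k ∈ K := by
    refine hKmem _ (mul_mem (mul_mem hk hsK.1) hk) ?_
    have h4 := smul_line (g := k) h3
    have e5 : (s * z * s⁻¹) • a = s • (z • a) := by
      rw [mul_smul, mul_smul, inv_smul_eq_iff.2 (hsK.1.1 : s • a = a).symm]
    rw [e5, ← hkx, (hk.1 : k • a = a), ← mul_smul k k x, hkk, one_smul, ← mul_smul, ← mul_smul] at h4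
    exact h4
  have hcases : k * s * k = s ∨ k * s * k = s * s := by
    have hmem : (⟨_, hksk⟩ : K) ∈ Subgroup.zpowers (⟨s, hsK⟩ : K) := by
      rw [Subgroup.eq_top_of_card_eq (Subgroup.zpowers (⟨s, hsK⟩ : K))
        (by rw [Nat.card_zpowers, hso, hKcard])]
      trivial
    obtain ⟨i, hi⟩ := mem_powers_iff_mem_zpowers.2 hmem
    have hi' : s ^ i = k * s * k := congrArg Subtype.val hi
    rw [← pow_mod_orderOf, show orderOf s = 3 by rw [← hso, Subgroup.orderOf_mk]] at hi'
    have : i % 3 < 3 := Nat.mod_lt _ (by norm_num)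
    interval_cases hi3 : i % 3
    · exfalso
      rw [pow_zero] at hi'
      refine hs1' ?_
      have e : k * (k * s * k) * k = s := by
        rw [show k * (k * s * k) * k = (k * k) * s * (k * k) by group, hkk, one_mul, mul_one]
      rw [← e, ← hi', mul_one, hkk]
    · exact Or.inl (by rw [← hi', pow_one])
    · exact Or.inr (by rw [← hi', pow_two])
  obtain ⟨-, -, -, hnorm, -⟩ := h.pair_facts hab
  have hk1 : k = 1 := hnorm k hk s hsK.1 hkk hs3 hs1' hcases
  rw [hk1, one_mul, inv_one, mul_one] at hzk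
  refine hne ?_
  have := mul_inv_eq_iff_eq_mul.1 (hzk.symm : u * w * u⁻¹ = w)
  exact this

/-- The regular normal subgroup. -/
def translations [Finite G] (a : Ω) : Subgroup G where
  carrier := {m | m = 1 ∨ Fpf Ω m}
  one_mem' := Or.inl rfl
  mul_mem' := fun {u w} hu hw => by
    rcases hu with rfl | hu
    · simpa using hw
    rcases hw with rfl | hw
    · rw [mul_one]; exact Or.inr hu
    by_cases he : u = w
    · exact Or.inl (by rw [he, mul_self_two hw.1])
    right
    have hc := h.commute_all hu hw a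
    refine ⟨order_two' (by rw [Commute.mul_mul_mul_comm hc.symm, mul_self_two hu.1, mul_self_two hw.1,
      mul_one]) (fun e => he (by
        rw [eq_inv_of_mul_eq_one_left e, inv_eq_of_mul_eq_one_right (mul_self_two hw.1)])), fun x hx => he ?_⟩
    rw [mul_smul] at hx
    exact h.fpf_unique hu hw (x := x) (by
      calc u • x = u • u • w • x := by rw [hx]
        _ = w • x := hu.smul_smul _)
  inv_mem' := fun {u} hu => by
    rcases hu with rfl | hu
    · simp
    · rw [inv_eq_of_mul_eq_one_right (mul_self_two hu.1)]; exact Or.inr hu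

end Plane

end CfsgLib.Perm.TwoPointFour.Sixteen
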