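import Cfsg.Agent.Lib.Perm.TwoPointFour.Sixteen.Plane

/-!
Degree sixteen: an element of order three fixing one point, normalising every line through it and
centralising its stabiliser.
-/

set_option autoImplicit false
set_option linter.unusedSectionVars false
set_option linter.style.haveILetI false
set_option maxHeartbeats 1000000

namespace CfsgLib.Perm.TwoPointFour.Sixteen

open MulAction

set_option synthInstance.maxSize 4000 in
theorem alt_four_product :
    ∀ t : ↥(alternatingGroup (Fin 4)), ∃ p q : ↥(alternatingGroup (Fin 4)),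
      p * p * p = 1 ∧ q * q * q = 1 ∧ t = p * q := by decide +kernel

variable {G Ω : Type*} [Group G] [MulAction G Ω]

/-- Fixes `a` and maps each other point along its line through `a`. -/
def Scal (a : Ω) (k : G) : Prop := k • a = a ∧ ∀ x : Ω, x ≠ a → k • x ∈ line G a x

namespace Plane

variable (h : Plane G Ω) [Finite G]
include h

theorem line_smul {g : G} {a x : Ω} (hg : g • a = a) :
    (fun y => g • y) '' line G a x = line G a (g • x) := by
  ext y
  constructor
  · rintro ⟨w, hw, rfl⟩
    have := smul_line (g := g) hw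
    rwa [hg] at this
  · intro hy
    refine ⟨g⁻¹ • y, ?_, smul_inv_smul g y⟩
    have := smul_line (g := g⁻¹) hy
    rwa [inv_smul_eq_iff.2 hg.symm, inv_smul_smul] at this

/-- Such an element fixing another point is trivial. -/
theorem scal_eq_one {a y : Ω} (hay : a ≠ y) {k : G} (hk : Scal a k) (hky : k • y = y) : k = 1 := by
  classical
  haveI := h.finite_points
  by_contra hk1
  set H := stabilizer G a ⊓ stabilizer G y
  have hkH : k ∈ H := ⟨hk.1, hky⟩
  obtain ⟨-, hord, ⟨t, ht, -, -, ht2, -, -⟩, hnorm, -⟩ := h.pair_facts hay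
  obtain ⟨x, hx⟩ : ∃ x, x ∉ line G a y := by
    by_contra hcon
    push Not at hcon
    have hu : line G a y = Set.univ := Set.eq_univ_of_forall hcon
    have := h.ncard_line hay
    rw [hu, Set.ncard_univ, h.card] at this
    omega
  have hfree : ∀ q ∈ H, q • x = x → q = 1 := fun q hq e => h.eq_one_of_fix hay hx hq e
  have hxa : x ≠ a := fun e => hx (by rw [e]; exact left_mem_line a y)
  have hkx : k • x ∈ line G a x := hk.2 x hxa
  have hkxa : k • x ≠ a := fun e => hxa (MulAction.injective k (e.trans hk.1.symm :))
  have hkkx : k • k • x ∈ line G a x := by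
    have h1 := hk.2 _ hkxa
    rwa [h.line_eq (Ne.symm hxa) (Ne.symm hkxa) (left_mem_line a x) hkx] at h1
  have h1 : k • x ≠ x := fun e => hk1 (hfree k hkH e)
  have hkkxa : k • k • x ≠ a := fun e => hkxa (MulAction.injective k (e.trans hk.1.symm :))
  have hLy : ∀ z ∈ line G a x, z ≠ a → z ∉ line G a y := fun z hz hza hzy => hx (by
    rw [← h.line_eq hay hza.symm (left_mem_line a y) hzy,
      h.line_eq (Ne.symm hxa) hza.symm (left_mem_line a x) hz]
    exact right_mem_line a x)
  have h2 : k • k • x ≠ x := by
    intro e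
    -- the third point of the line would be fixed
    obtain ⟨z, hz, hzn⟩ := Set.exists_mem_notMem_of_ncard_lt_ncard
      (s := {a, x, k • x}) (t := line G a x) (by
        rw [h.ncard_line (Ne.symm hxa)]
        exact lt_of_le_of_lt (Set.ncard_insert_le _ _) (by
          have := Set.ncard_insert_le x ({k • x} : Set Ω)
          rw [Set.ncard_singleton] at this
          omega)) (Set.toFinite _)
    simp only [Set.mem_insert_iff, Set.mem_singleton_iff, not_or] at hzn
    have hkz : k • z ∈ line G a x := by
      have h3 := hk.2 z hzn.1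
      rwa [h.line_eq (Ne.symm hxa) (Ne.symm hzn.1) (left_mem_line a x) hz] at h3
    have hset : line G a x = {a, x, k • x, z} := by
      refine (Set.eq_of_subset_of_ncard_le ?_ ?_ (Set.toFinite _)).symm
      · rintro w (rfl | rfl | rfl | rfl)
        exacts [left_mem_line _ _, right_mem_line _ _, hkx, hz]
      · rw [h.ncard_line (Ne.symm hxa), Set.ncard_insert_of_notMem, Set.ncard_insert_of_notMem,
          Set.ncard_pair (Ne.symm hzn.2.2)]
        · simp [h1.symm, Ne.symm hzn.2.1]
        · simp [hxa.symm, hkxa.symm, Ne.symm hzn.1]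
    rw [hset] at hkz
    rcases hkz with r | r | r | r
    · exact hzn.1 (MulAction.injective k (r.trans hk.1.symm :))
    · exact hzn.2.2 (MulAction.injective k (r.trans e.symm :))
    · exact hzn.2.1 (MulAction.injective k r)
    · exact hk1 (h.eq_one_of_fix hay (hLy z hz hzn.1) hkH r)
  have hk3 : k * k * k = 1 := (hord k hkH).resolve_left fun e => h2 (by rw [← mul_smul, e, one_smul])
  have hset : line G a x = {a, x, k • x, k • k • x} := by
    refine (Set.eq_of_subset_of_ncard_le ?_ ?_ (Set.toFinite _)).symm
    · rintro w (rfl | rfl | rfl | rfl)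
      exacts [left_mem_line _ _, right_mem_line _ _, hkx, hkkx]
    · rw [h.ncard_line (Ne.symm hxa), Set.ncard_insert_of_notMem, Set.ncard_insert_of_notMem,
        Set.ncard_pair (fun e => h1 (MulAction.injective k e).symm)]
      · simp [h1.symm, h2.symm]
      · simp [hxa.symm, hkxa.symm, hkkxa.symm]
  have htx : t • x ≠ a := fun e => hxa (MulAction.injective t (e.trans ht.1.symm :))
  set q := t * k * t
  have hqH : q ∈ H := mul_mem (mul_mem ht hkH) ht
  have hq : q • x ∈ line G a x := by
    have h3 := smul_line (g := t) (hk.2 _ htx)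
    rw [(ht.1 : t • a = a), ← mul_smul t t x, mul_self_two ht2, one_smul, ← mul_smul, ← mul_smul] at h3
    exact h3
  rw [hset] at hq
  have htt : t * t = 1 := mul_self_two ht2
  have hconc : q = k ∨ q = k * k := by
    rcases hq with r | r | r | r
    · exact absurd (MulAction.injective q (r.trans (hqH.1 : q • a = a).symm :)) hxa
    · exfalso
      have e := hfree q hqH r
      refine hk1 ?_
      calc k = (t * t) * k * (t * t) := by rw [htt, one_mul, mul_one]
        _ = t * q * t := by simp only [q]; group
        _ = 1 := by rw [e, mul_one, htt]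
    · refine Or.inl (inv_mul_eq_one.1 (hfree _ (mul_mem (inv_mem hkH) hqH) ?_)).symm
      rw [mul_smul, r, inv_smul_smul]
    · refine Or.inr (inv_mul_eq_one.1 (hfree _ (mul_mem (inv_mem (mul_mem hkH hkH)) hqH) ?_)).symm
      rw [mul_smul, r, ← mul_smul k k, inv_smul_smul]
  exact ne_one_two ht2 (hnorm t ht k hkH htt hk3 hk1 hconc)

/-- A central element of order three of the stabiliser of a point, fixing no other point. -/
theorem exists_scalar {a b : Ω} (hab : a ≠ b) (hGa : Nat.card (stabilizer G a) = 180) :
    ∃ z : G, z * z * z = 1 ∧ z • a = a ∧ (∀ x, x ≠ a → z • x ≠ x) ∧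
      ∀ g : G, g • a = a → Commute g z := by
  classical
  haveI := h.finite_points
  have := Fintype.ofFinite Ω
  -- the lines through `a`
  let Lin := {L : Set Ω // ∃ x, x ≠ a ∧ L = line G a x}
  have hLin : Nat.card Lin = 5 := by
    let f : {x : Ω // x ≠ a} → Lin := fun x => ⟨line G a x.1, x.1, x.2, rfl⟩
    have hfib : ∀ L : Lin, Nat.card {x // f x = L} = 3 := by
      rintro ⟨L, x, hx, rfl⟩
      rw [← show (line G a x \ {a}).ncard = 3 by
        rw [Set.ncard_sdiff_singleton_of_mem (left_mem_line a x), h.ncard_line (Ne.symm hx)],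
        ← Nat.card_coe_set_eq]
      refine Nat.card_congr
        { toFun := fun y => ⟨y.1.1, ?_, y.1.2⟩
          invFun := fun y => ⟨⟨y.1, y.2.2⟩, Subtype.ext
            (h.line_eq (Ne.symm hx) (fun e => y.2.2 e.symm) (left_mem_line a x) y.2.1)⟩
          left_inv := fun _ => rfl
          right_inv := fun _ => rfl }
      exact (show line G a y.1.1 = line G a x from congrArg Subtype.val y.2).subset
        (right_mem_line a y.1.1)
    have hsum := Nat.card_congr (Equiv.sigmaFiberEquiv f)
    rw [Nat.card_sigma, Finset.sum_congr rfl (fun L _ => hfib L), Finset.sum_const, Finset.card_univ,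
      smul_eq_mul, Nat.card_eq_fintype_card (α := {x : Ω // x ≠ a}), Fintype.card_subtype_compl,
      Fintype.card_subtype_eq, ← Nat.card_eq_fintype_card (α := Ω), h.card,
      ← Nat.card_eq_fintype_card] at hsum
    omega
  let act : stabilizer G a →* Equiv.Perm Lin :=
    { toFun := fun g =>
        { toFun := fun L => ⟨(fun y => (g : G) • y) '' L.1, by
            obtain ⟨x, hx, e⟩ := L.2
            exact ⟨(g : G) • x, fun e' => hx (MulAction.injective (g : G) (e'.trans g.2.symm :)),
              by rw [e, h.line_smul g.2]⟩⟩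
          invFun := fun L => ⟨(fun y => (g : G)⁻¹ • y) '' L.1, by
            obtain ⟨x, hx, e⟩ := L.2
            exact ⟨(g : G)⁻¹ • x, fun e' => hx
              (MulAction.injective (g : G)⁻¹ (e'.trans (inv_smul_eq_iff.2 g.2.symm).symm :)),
              by rw [e, h.line_smul (inv_smul_eq_iff.2 g.2.symm)]⟩⟩
          left_inv := fun L => Subtype.ext (by simp [Set.image_image])
          right_inv := fun L => Subtype.ext (by simp [Set.image_image]) }
      map_one' := Equiv.ext fun L => Subtype.ext (by simp)
      map_mul' := fun g g' => Equiv.ext fun L => Subtype.ext (by simp [Set.image_image, mul_smul]) }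
  have hscal : ∀ k : act.ker, Scal a ((k : stabilizer G a) : G) := fun k => ⟨k.1.2, fun x hx => by
    have h1 := DFunLike.congr_fun (MonoidHom.mem_ker.1 k.2) ⟨line G a x, x, hx, rfl⟩
    have h2 : (fun y => ((k : stabilizer G a) : G) • y) '' line G a x = line G a x :=
      congrArg Subtype.val h1
    rw [← h2]
    exact ⟨x, right_mem_line a x, rfl⟩⟩
  have hker : Nat.card act.ker = 3 := by
    have hle : Nat.card act.ker ≤ 3 := by
      rw [← show (line G a b \ {a}).ncard = 3 by
        rw [Set.ncard_sdiff_singleton_of_mem (left_mem_line a b), h.ncard_line hab],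
        ← Nat.card_coe_set_eq]
      refine Nat.card_le_card_of_injective (fun k : act.ker =>
        (⟨((k : stabilizer G a) : G) • b, (hscal k).2 b hab.symm, fun e => hab.symm
          (MulAction.injective ((k : stabilizer G a) : G) (e.trans (hscal k).1.symm :))⟩ :
          (line G a b \ {a} : Set Ω))) fun k k' e => ?_
      have e' : ((k : stabilizer G a) : G) • b = ((k' : stabilizer G a) : G) • b :=
        congrArg Subtype.val e
      have h1 : Scal a ((((k⁻¹ * k' : act.ker) : stabilizer G a)) : G) := hscal _
      have h2 := h.scal_eq_one hab h1 (by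
        simp only [Subgroup.coe_mul, Subgroup.coe_inv]
        rw [mul_smul, ← e', inv_smul_smul])
      exact inv_mul_eq_one.1 (Subtype.ext (Subtype.ext h2))
    have h1 := act.ker.index_mul_card
    rw [hGa, Subgroup.index_ker] at h1
    have h2 := act.range.card_subgroup_dvd_card
    rw [Nat.card_perm, hLin, show Nat.factorial 5 = 120 from rfl] at h2
    have h3 : Nat.card act.range ∣ 180 := ⟨_, h1.symm⟩
    have h4 : Nat.card act.range ∣ 60 := by
      have := Nat.dvd_gcd h2 h3
      simpa using this
    have h5 := Nat.le_of_dvd (by norm_num) h4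
    rcases Nat.lt_or_ge (Nat.card act.ker) 3 with hlt | hge
    · exfalso
      have := Nat.mul_le_mul h5 (Nat.le_of_lt_succ hlt)
      omega
    · omega
  obtain ⟨z, hz1⟩ : ∃ z : act.ker, z ≠ 1 := by
    haveI : Nontrivial act.ker := Finite.one_lt_card_iff_nontrivial.1 (by omega)
    exact exists_ne 1
  haveI : Fact (Nat.Prime 3) := ⟨Nat.prime_three⟩
  have hzo : orderOf z = 3 :=
    ((Nat.dvd_prime Nat.prime_three).1 (hker ▸ orderOf_dvd_natCard z)).resolve_left
      fun e => hz1 (orderOf_eq_one_iff.1 e)
  set w : G := ((z : stabilizer G a) : G) with hw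
  have hw3 : w * w * w = 1 := by
    have := pow_orderOf_eq_one z
    rw [hzo, pow_succ, pow_two] at this
    exact congrArg (fun q : act.ker => ((q : stabilizer G a) : G)) this
  have hw1 : w ≠ 1 := fun e => hz1 (Subtype.ext (Subtype.ext e))
  refine ⟨w, hw3, (hscal z).1, fun x hx e => hw1 (h.scal_eq_one (Ne.symm hx) (hscal z) e), ?_⟩
  -- the stabiliser acts on the kernel by a sign
  have hsign : ∀ g : G, g • a = a → g * w * g⁻¹ = w ∨ g * w * g⁻¹ = w * w := by
    intro g hg
    haveI : act.ker.Normal := inferInstance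
    have hmem : (⟨g, hg⟩ : stabilizer G a) * z.1 * ⟨g, hg⟩⁻¹ ∈ act.ker :=
      Subgroup.Normal.conj_mem inferInstance _ z.2 _
    have hz' : (⟨_, hmem⟩ : act.ker) ∈ Subgroup.zpowers z := by
      rw [Subgroup.eq_top_of_card_eq (Subgroup.zpowers z) (by rw [Nat.card_zpowers, hzo, hker])]
      trivial
    obtain ⟨i, hi⟩ := mem_powers_iff_mem_zpowers.2 hz'
    have hi' : w ^ i = g * w * g⁻¹ :=
      congrArg (fun q : act.ker => ((q : stabilizer G a) : G)) hi
    rw [← pow_mod_orderOf, show orderOf w = 3 by
      rw [hw, Subgroup.orderOf_coe, Subgroup.orderOf_coe, hzo]] at hi'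
    have : i % 3 < 3 := Nat.mod_lt _ (by norm_num)
    interval_cases hi3 : i % 3
    · exact absurd (conj_eq_one_iff.1 (hi'.symm.trans (pow_zero w))) hw1
    · exact Or.inl (by rw [← hi', pow_one])
    · exact Or.inr (by rw [← hi', pow_two])
  have hthree : ∀ g : G, g • a = a → g * g * g = 1 → Commute g w := by
    intro g hg hg3
    rcases hsign g hg with r | r
    · exact mul_inv_eq_iff_eq_mul.1 r
    exfalso
    have h2 : g * (g * w * g⁻¹) * g⁻¹ = w := by
      rw [r, show g * (w * w) * g⁻¹ = (g * w * g⁻¹) * (g * w * g⁻¹) by group, r,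
        show w * w * (w * w) = w * w * w * w by group, hw3, one_mul]
    have h3 : g * (g * (g * w * g⁻¹) * g⁻¹) * g⁻¹ = w := by
      rw [show g * (g * (g * w * g⁻¹) * g⁻¹) * g⁻¹ = (g * g * g) * w * (g * g * g)⁻¹ by group, hg3]
      group
    rw [h2, r] at h3
    exact hw1 (mul_eq_left.1 h3)
  have hpair : ∀ y : Ω, a ≠ y → ∀ g ∈ stabilizer G a ⊓ stabilizer G y, Commute g w := by
    intro y hy g hg
    obtain ⟨e⟩ := h.stab a y hy
    obtain ⟨p, q, hp, hq, hpq⟩ := alt_four_product (e ⟨g, hg⟩)
    have hsub : ∀ r : ↥(alternatingGroup (Fin 4)), r * r * r = 1 → Commute ((e.symm r : G)) w :=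
      fun r hr => hthree _ (e.symm r).2.1 (by
        rw [← Subgroup.coe_mul, ← Subgroup.coe_mul, ← map_mul, ← map_mul, hr, map_one,
          Subgroup.coe_one])
    have : g = (e.symm p : G) * (e.symm q : G) := by
      rw [← Subgroup.coe_mul, ← map_mul, ← hpq, MulEquiv.symm_apply_apply]
    rw [this]
    exact (hsub p hp).mul_left (hsub q hq)
  intro g hg
  obtain ⟨y, hy⟩ : ∃ y, y ∉ line G a b := by
    by_contra hcon
    push Not at hcon
    have hu : line G a b = Set.univ := Set.eq_univ_of_forall hcon
    have := h.ncard_line hab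
    rw [hu, Set.ncard_univ, h.card] at this
    omega
  have hay : a ≠ y := fun e => hy (e ▸ left_mem_line a b)
  have hby : b ∉ line G a y := fun hm => hy (by
    rw [h.line_eq hay hab (left_mem_line a y) hm]
    exact right_mem_line a y)
  obtain ⟨c, hc, hca, hcb⟩ : ∃ c : G, Commute c w ∧ c • a = a ∧ c • b = g • b := by
    by_cases hgy : g • b ∈ line G a y
    · have hne : g • b ≠ a := fun e => hab (MulAction.injective g (hg.trans e.symm :))
      have hgb : g • b ∉ line G a b := fun hm => hy (by
        rw [← h.line_eq hab hne.symm (left_mem_line a b) hm,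
          h.line_eq hay hne.symm (left_mem_line a y) hgy]
        exact right_mem_line a y)
      obtain ⟨p, hp⟩ : ∃ p, p ∉ line G a b ∪ line G a y := by
        by_contra hcon
        push Not at hcon
        have hu : line G a b ∪ line G a y = Set.univ := Set.eq_univ_of_forall hcon
        have := Set.ncard_union_le (line G a b) (line G a y)
        rw [hu, Set.ncard_univ, h.card, h.ncard_line hab, h.ncard_line hay] at this
        omega
      rw [Set.mem_union, not_or] at hp
      obtain ⟨c1, hc1, e1⟩ := h.exists_off hay hby hp.2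
      obtain ⟨c2, hc2, e2⟩ := h.exists_off hab hp.1 hgb
      exact ⟨c2 * c1, (hpair b hab c2 hc2).mul_left (hpair y hay c1 hc1),
        by rw [mul_smul, (hc1.1 : c1 • a = a), (hc2.1 : c2 • a = a)], by rw [mul_smul, e1, e2]⟩
    · obtain ⟨c, hc, e⟩ := h.exists_off hay hby hgy
      exact ⟨c, hpair y hay c hc, hc.1, e⟩
  have hmem : c⁻¹ * g ∈ stabilizer G a ⊓ stabilizer G b :=
    ⟨show (c⁻¹ * g) • a = a by rw [mul_smul, hg, inv_smul_eq_iff.2 hca.symm],
      show (c⁻¹ * g) • b = b by rw [mul_smul, ← hcb, inv_smul_smul]⟩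
  have := hc.mul_left (hpair b hab _ hmem)
  rwa [mul_inv_cancel_left] at this

end Plane

end CfsgLib.Perm.TwoPointFour.Sixteen
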